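import Groth.Agent.FF71.Main
import Groth.Agent.Var76.HHPush
import Groth.Agent.Coh69.AffinePush
import Groth.Agent.FMK72.BaseChange
import Groth.Agent.Mum71.RpushLin
import Groth.Agent.S0792

/-! Formal functions for coherent modules with proper support. -/

set_option autoImplicit false
set_option maxSynthPendingDepth 6
set_option linter.style.haveILetI false
set_option linter.unusedSectionVars false
set_option backward.isDefEq.respectTransparency.types false

universe u

noncomputable section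

open CategoryTheory Limits AlgebraicGeometry TopologicalSpace Opposite

namespace Groth.Agent.FF52

open QC70 Coh69 CechComp71 FF71 Var76

variable {A : Type u} [CommRing A] {X Z : Scheme.{u}} [X.Over (Spec (CommRingCat.of A))]
  [Z.Over (Spec (CommRingCat.of A))] [QuasiCompact (X ↘ Spec (CommRingCat.of A))]
  [IsProper (Z ↘ Spec (CommRingCat.of A))] (i : Z ⟶ X) [IsClosedImmersion i]
  (hi : i ≫ (X ↘ Spec (CommRingCat.of A)) = Z ↘ Spec (CommRingCat.of A))

theorem exists_affine_cover (A : Type u) [CommRing A] (X : Scheme.{u}) [X.Over (Spec (CommRingCat.of A))]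
    [QuasiCompact (X ↘ Spec (CommRingCat.of A))] : ∃ (ι : Type u) (_ : Finite ι) (U : ι → X.Opens), (⨆ j, U j = ⊤) ∧
    ∀ j, IsAffineOpen (U j) := by
  haveI : CompactSpace X :=
    QuasiCompact.compactSpace_of_compactSpace (X ↘ Spec (CommRingCat.of A))
  obtain ⟨T, hT⟩ := isCompact_univ.elim_finite_subcover
    (fun U : X.affineOpens => (U.1 : Set X)) (fun U => U.1.isOpen) (fun x _ => by
      obtain ⟨_, ⟨V, hV, rfl⟩, hxV, -⟩ :=
        X.isBasis_affineOpens.exists_subset_of_mem_open (Set.mem_univ x) isOpen_univ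
      exact Set.mem_iUnion.2 ⟨⟨V, hV⟩, hxV⟩)
  refine ⟨T, inferInstance, fun U => U.1.1, top_le_iff.mp fun x _ => ?_, fun U => U.1.2⟩
  obtain ⟨U, hU, hxU⟩ := Set.mem_iUnion₂.1 (hT (Set.mem_univ x))
  exact Opens.mem_iSup.mpr ⟨⟨U, hU⟩, hxU⟩

omit i in
theorem hm_comp' {N N' N'' : X.Modules} (φ : N ⟶ N') (ψ : N' ⟶ N'') (p : ℕ) (x : Coh.HH X N p) :
    hm ψ p (hm φ p x) = hm (φ ≫ ψ) p x :=
  Formal.HHmap_comp φ ψ p x

include hi in
theorem app_rA (V : X.Opens) (a : A) : i.app V (rA A X V a) = rA A Z (i ⁻¹ᵁ V) a := by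
  simp only [rA, RingHom.comp_apply]
  rw [← hi, Scheme.Hom.comp_appTop]
  exact ConcreteCategory.congr_hom (i.naturality (homOfLE (le_top : V ≤ ⊤)).op)
    ((X ↘ Spec (CommRingCat.of A)).appTop ((Scheme.ΓSpecIso (CommRingCat.of A)).inv a))

include hi in
theorem isAffineOpen_pre {ι : Type u} (U : ι → X.Opens) (hU : ∀ j, IsAffineOpen (U j)) :
    ∀ (n : ℕ) (j : Fin (n + 1) → ι), IsAffineOpen (cOpen (preCover i U) j) := by
  haveI : Z.IsSeparated :=
    ⟨by rw [← terminal.comp_from (Z ↘ Spec (CommRingCat.of A))]; infer_instance⟩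
  intro n
  induction n with
  | zero =>
    intro j
    rw [show cOpen (preCover i U) j = i ⁻¹ᵁ U (j 0) from le_antisymm (cOpen_le _ j 0)
      (le_cOpen _ fun l => by rw [Fin.fin_one_eq_zero l])]
    exact (hU (j 0)).preimage i
  | succ n ih =>
    intro j
    rw [← Fin.cons_self_tail j, cOpen_cons]
    exact IsAffineOpen.inf ((hU (j 0)).preimage i) (ih _)

include hi in
theorem acyclicOn_push (G : Z.Modules) [G.IsQuasicoherent] {ι : Type u} (U : ι → X.Opens)
    (hU : ∀ j, IsAffineOpen (U j)) : AcyclicOn U (Coh.toAb ((Coh.push i).obj G)) := by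
  intro q n j
  obtain ⟨e⟩ := leray i.base {V | IsAffineOpen (X := X) V} X.isBasis_affineOpens (Coh.toAb G)
    (fun V (hV : IsAffineOpen (X := X) V) m => qcoh_subsingleton_HE G (V := i ⁻¹ᵁ V) (hV.preimage i) m)
    (q + 1) (cOpen U j)
  have hV : IsAffineOpen (i ⁻¹ᵁ cOpen U j) := cOpen_preCover i U j ▸ isAffineOpen_pre i hi U hU n j
  have h : Subsingleton (HE (Coh.toAb G) (q + 1) ((Opens.map i.base).obj (cOpen U j))) :=
    qcoh_subsingleton_HE G hV q
  exact e.symm.toEquiv.subsingleton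

/-- The comparison of cohomology along the closed immersion, on cocycles. -/
theorem exists_hhPush (G : Z.Modules) [G.IsQuasicoherent] {ι : Type u} (U : ι → X.Opens)
    (hU : ∀ j, IsAffineOpen (U j)) (hcov : ⨆ j, U j = ⊤) (p : ℕ)
    (hi : i ≫ (X ↘ Spec (CommRingCat.of A)) = Z ↘ Spec (CommRingCat.of A)) :
    ∃ e : Coh.HH X ((Coh.push i).obj G) p ≃ₗ[A] Coh.HH Z G p, ∀ z,
      e (toHH U hcov ((Coh.push i).obj G) p z) =
        toHH (preCover i U) (by rw [← Scheme.Hom.preimage_iSup, hcov]; rfl) G p (pushZ i U G p z) := by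
  have hV : ⨆ j, preCover i U j = ⊤ := by rw [← Scheme.Hom.preimage_iSup, hcov]; rfl
  have hacS := acyclicOn_push i hi G U hU
  have hacX : AcyclicOn (preCover i U) (Coh.toAb G) :=
    acyclicOn_of_isAffineOpen _ _ (isAffineOpen_pre i hi U hU)
  let θ : MZ U ((Coh.push i).obj G) p →+ Coh.HH Z G p :=
    (toHH (preCover i U) hV G p).comp (pushZ i U G p).toAddMonoidHom
  have hsurj : Function.Surjective θ := (toHH_surjective hV hacX p).comp (pushZ i U G p).surjective
  have hker : θ.ker = (toHH U hcov ((Coh.push i).obj G) p).ker := by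
    ext z
    rw [AddMonoidHom.mem_ker, AddMonoidHom.mem_ker]
    show toHH (preCover i U) hV G p (pushZ i U G p z) = 0 ↔ _
    cases p with
    | zero =>
      refine ((map_eq_zero_iff _ (toHH_zero_bijective _ hV G).1).trans ?_).trans
        (map_eq_zero_iff _ (toHH_zero_bijective _ hcov _).1).symm
      exact (pushZ i U G 0).map_eq_zero_iff
    | succ q =>
      rw [toHH_eq_zero_iff hV hacX, toHH_eq_zero_iff hcov hacS]
      constructor
      · rintro ⟨r, hr⟩
        refine ⟨(pushCoch i U G q).symm r, (pushCoch i U G (q + 1)).injective ?_⟩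
        exact (pushCoch_cd i U G q _).trans ((congrArg _ ((pushCoch i U G q).apply_symm_apply r)).trans hr)
      · rintro ⟨r, hr⟩
        exact ⟨pushCoch i U G q r, (pushCoch_cd i U G q r).symm.trans (congrArg _ hr)⟩
  let e₁ := QuotientAddGroup.quotientKerEquivOfSurjective _ (toHH_surjective hcov hacS p)
  let e₂ := QuotientAddGroup.quotientKerEquivOfSurjective _ hsurj
  let e := e₁.symm.trans ((QuotientAddGroup.quotientAddEquivOfEq hker.symm).trans e₂)
  have he : ∀ z, e (toHH U hcov _ p z) = θ z := fun z => by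
    have : e₁.symm (toHH U hcov _ p z) = QuotientAddGroup.mk z := e₁.symm_apply_apply (QuotientAddGroup.mk z)
    show e₂ (QuotientAddGroup.quotientAddEquivOfEq hker.symm (e₁.symm _)) = _
    rw [this]
    rfl
  exact ⟨{ e with
    map_smul' := fun a x => by
      obtain ⟨z, rfl⟩ := toHH_surjective hcov hacS p x
      change e (a • _) = a • e _
      rw [← toHH_smulZ, he, he]
      show toHH _ hV G p (pushZ i U G p (smulZ A U _ p a z)) = a • toHH _ hV G p (pushZ i U G p z)
      rw [← toHH_smulZ]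
      exact congrArg _ (Subtype.ext (pushCoch_smul i hi U G p a z.1)) }, he⟩

theorem pushZ_zmap {G G' : Z.Modules} (φ : G ⟶ G') {ι : Type u} (U : ι → X.Opens) (p : ℕ)
    (z : MZ U ((Coh.push i).obj G) p) :
    pushZ i U G' p (zmap ((SheafOfModules.toSheaf _).map ((Coh.push i).map φ)) p z) =
      zmap ((SheafOfModules.toSheaf _).map φ) p (pushZ i U G p z) :=
  Subtype.ext (funext fun j => (QC70.app_res φ (cOpen_preCover i U j).le _).symm)

variable (I : Ideal A) {M : X.Modules} (G : Z.Modules) [M.IsQuasicoherent] [G.IsQuasicoherent]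
  (e : (Coh.push i).obj G ≅ M)

include hi in
theorem smulMod_comp_push (n : ℕ) {a : A} (ha : a ∈ I ^ n) :
    Formal.smulMod A M a ≫ e.inv ≫ (Coh.push i).map (Formal.modPowπ I n G) = 0 := by
  refine Scheme.Modules.hom_ext _ _ fun V => ?_
  ext m
  change (Formal.modPowπ I n G).app (i ⁻¹ᵁ V) (e.inv.app V (rA A X V a • m)) = 0
  rw [Scheme.Modules.Hom.app_smul]
  refine modPowπ_app_of_mem I G n ?_
  show (i.app V (rA A X V a) • (show Γ(G, i ⁻¹ᵁ V) from e.inv.app V m)) ∈ _
  rw [app_rA i hi]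
  exact smul_mem_secI ha _

/-- The reduction of the direct image. -/
def redHom (n : ℕ) : Formal.modPow I n M ⟶ (Coh.push i).obj (Formal.modPow I n G) :=
  cokernel.desc _ (e.inv ≫ (Coh.push i).map (Formal.modPowπ I n G)) (Sigma.hom_ext _ _ fun a => by
    have hι : Sigma.ι (fun _ : (I ^ n : Ideal A) => M) a ≫ Formal.smulFamily (I ^ n) M =
        Formal.smulMod A M a.1 := Sigma.ι_desc _ _
    rw [← Category.assoc, hι, comp_zero]
    exact smulMod_comp_push i hi I G e n a.2)

theorem modPowπ_redHom (n : ℕ) :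
    Formal.modPowπ I n M ≫ redHom i hi I G e n = e.inv ≫ (Coh.push i).map (Formal.modPowπ I n G) :=
  cokernel.π_desc _ _ _

instance isIso_redHom [IsNoetherianRing A] (n : ℕ) : IsIso (redHom i hi I G e n) := by
  refine FMK72.isIso_of_basis _ fun x W hx => ?_
  obtain ⟨_, ⟨V, hV, rfl⟩, hxV, hVW⟩ :=
    X.isBasis_affineOpens.exists_subset_of_mem_open hx W.isOpen
  refine ⟨V, hVW, hxV, ?_⟩
  have key : ∀ y : Γ(M, V), (redHom i hi I G e n).app V ((Formal.modPowπ I n M).app V y) =
      (Formal.modPowπ I n G).app (i ⁻¹ᵁ V) (e.inv.app V y) := fun y =>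
    congrArg (fun φ => φ.app V y) (modPowπ_redHom i hi I G e n)
  refine ⟨(injective_iff_map_eq_zero ((redHom i hi I G e n).app V).hom).mpr fun q hq => ?_, fun q => ?_⟩
  · obtain ⟨y, rfl⟩ := modPowπ_app_surjective I M n hV q
    have h := mem_secI_of_modPowπ_eq_zero I G n (hV.preimage i) ((key y).symm.trans hq)
    have hy : y = e.hom.app V (e.inv.app V y) := (congrArg (fun φ => φ.app V y) e.inv_hom_id).symm
    rw [hy]
    refine secI_induction (P := fun t : Γ(G, i ⁻¹ᵁ V) =>
      (Formal.modPowπ I n M).app V (e.hom.app V t) = 0) ?_ ?_ ?_ h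
    · exact (congrArg _ (map_zero (e.hom.app V).hom)).trans (map_zero _)
    · intro a b ha hb
      exact ((congrArg _ (map_add (e.hom.app V).hom a b)).trans (map_add _ _ _)).trans
        ((congrArg₂ (· + ·) ha hb).trans (add_zero 0))
    · intro a ha t
      rw [← app_rA i hi]
      refine modPowπ_app_of_mem I M n ?_
      show e.hom.app V (rA A X V a • (show Γ((Coh.push i).obj G, V) from t)) ∈ _
      rw [Scheme.Modules.Hom.app_smul]
      exact smul_mem_secI ha _
  · obtain ⟨t, ht⟩ := modPowπ_app_surjective I G n (hV.preimage i) q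
    refine ⟨(Formal.modPowπ I n M).app V (e.hom.app V t), (key _).trans ?_⟩
    rw [← ht]
    exact congrArg _ (congrArg (fun φ => φ.app V t) e.hom_inv_id)

theorem redHom_trans (n : ℕ) :
    Formal.modPowTrans I n M ≫ redHom i hi I G e n =
      redHom i hi I G e (n + 1) ≫ (Coh.push i).map (Formal.modPowTrans I n G) := by
  haveI : Epi (Formal.modPowπ I (n + 1) M) := inferInstanceAs (Epi (cokernel.π _))
  rw [← cancel_epi (Formal.modPowπ I (n + 1) M), ← Category.assoc, Formal.modPowπ_trans, modPowπ_redHom,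
    ← Category.assoc, modPowπ_redHom, Category.assoc, ← Functor.map_comp, Formal.modPowπ_trans]

include hi e in
set_option maxHeartbeats 1600000 in
/-- Cohomology and its reductions transported to the closed subscheme. -/
theorem exists_transport [IsNoetherianRing A] (p : ℕ) :
    ∃ (E : Coh.HH X M p ≃ₗ[A] Coh.HH Z G p)
      (Ψ : Formal.HHlim I M p ≃+ Formal.HHlim I G p),
      ∀ x, Ψ (Formal.toHHlim I M p x) = Formal.toHHlim I G p (E x) := by
  obtain ⟨ι, _, U, hcov, hU⟩ := exists_affine_cover A X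
  have hV : ⨆ j, preCover i U j = ⊤ := by rw [← Scheme.Hom.preimage_iSup, hcov]; rfl
  have hq : ∀ n, (Formal.modPow I n G).IsQuasicoherent := fun n => inferInstance
  obtain ⟨eP, heP⟩ := exists_hhPush i G U hU hcov p hi
  choose eQ heQ using fun n => exists_hhPush i (Formal.modPow I (n + 1) G) U hU hcov p hi
  have nat0 : ∀ n x, eQ n (hm ((Coh.push i).map (Formal.modPowπ I (n + 1) G)) p x) =
      hm (Formal.modPowπ I (n + 1) G) p (eP x) := by
    intro n x
    obtain ⟨z, rfl⟩ := toHH_surjective hcov (acyclicOn_push i hi G U hU) p x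
    rw [show hm ((Coh.push i).map (Formal.modPowπ I (n + 1) G)) p (toHH U hcov _ p z) = _ from
      (toHH_natural U hcov _ p z).symm, heQ, pushZ_zmap, heP]
    exact toHH_natural (preCover i U) hV _ p _
  have natT : ∀ n x, eQ n (hm ((Coh.push i).map (Formal.modPowTrans I (n + 1) G)) p x) =
      hm (Formal.modPowTrans I (n + 1) G) p (eQ (n + 1) x) := by
    intro n x
    obtain ⟨z, rfl⟩ := toHH_surjective hcov (acyclicOn_push i hi (Formal.modPow I (n + 1 + 1) G) U hU) p x
    rw [show hm ((Coh.push i).map (Formal.modPowTrans I (n + 1) G)) p (toHH U hcov _ p z) = _ from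
      (toHH_natural U hcov _ p z).symm, heQ, pushZ_zmap, heQ]
    exact toHH_natural (preCover i U) hV _ p _
  let F := SheafOfModules.toSheaf X.ringCatSheaf ⋙ Sheaf.functorH (Opens.grothendieckTopology X) p
  obtain ⟨h₀, h₀lin⟩ : ∃ h : Coh.HH X M p ≃ₗ[A] Coh.HH X ((Coh.push i).obj G) p, ∀ x, h x = hm e.inv p x :=
    ⟨{ (F.mapIso e.symm).addCommGroupIsoToAddEquiv with
        map_smul' := fun a x => by
          show Sheaf.H.map ((SheafOfModules.toSheaf X.ringCatSheaf).map e.inv) p
              (Sheaf.H.map (Coh.smulAb M (Coh.toGlobal (X ↘ Spec (CommRingCat.of A)) a)) p x) =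
            Sheaf.H.map (Coh.smulAb _ (Coh.toGlobal (X ↘ Spec (CommRingCat.of A)) a)) p
              (Sheaf.H.map ((SheafOfModules.toSheaf X.ringCatSheaf).map e.inv) p x)
          rw [← Sheaf.H.map_comp_apply, ← Sheaf.H.map_comp_apply, smulAb_natural] }, fun x => rfl⟩
  haveI hiso : ∀ n, IsIso (redHom i hi I G e n) := isIso_redHom i hi I G e
  let ψ : ∀ n, Formal.HHmodPow I M p n ≃+ Formal.HHmodPow I G p n := fun n =>
    (F.mapIso (@asIso _ _ _ _ (redHom i hi I G e (n + 1)) (hiso (n + 1)))).addCommGroupIsoToAddEquiv.trans (eQ n).toAddEquiv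
  have hψ : ∀ n y, ψ n y = eQ n (hm (redHom i hi I G e (n + 1)) p y) := fun n y => rfl
  have hψπ : ∀ n x, ψ n (Formal.toHHmodPow I M p n x) = Formal.toHHmodPow I G p n (eP (h₀ x)) := by
    intro n x
    show eQ n (hm (redHom i hi I G e (n + 1)) p (hm (Formal.modPowπ I (n + 1) M) p x)) =
      hm (Formal.modPowπ I (n + 1) G) p (eP (h₀ x))
    rw [hm_comp', modPowπ_redHom, ← hm_comp', h₀lin, ← nat0]
  have hψT : ∀ n y, ψ n (Formal.HHmodPowTrans I M p n y) = Formal.HHmodPowTrans I G p n (ψ (n + 1) y) := by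
    intro n y
    show eQ n (hm (redHom i hi I G e (n + 1)) p (hm (Formal.modPowTrans I (n + 1) M) p y)) =
      hm (Formal.modPowTrans I (n + 1) G) p (eQ (n + 1) (hm (redHom i hi I G e (n + 1 + 1)) p y))
    rw [hm_comp', redHom_trans, ← hm_comp', ← natT]
  refine ⟨h₀.trans eP,
    { toFun := fun x => ⟨fun n => ψ n (x.1 n), fun n => by
        show Formal.HHmodPowTrans I G p n (ψ (n + 1) (x.1 (n + 1))) = ψ n (x.1 n)
        rw [← hψT, x.2 n]⟩
      invFun := fun y => ⟨fun n => (ψ n).symm (y.1 n), fun n => by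
        show Formal.HHmodPowTrans I M p n ((ψ (n + 1)).symm (y.1 (n + 1))) = (ψ n).symm (y.1 n)
        refine (ψ n).injective ?_
        rw [hψT, AddEquiv.apply_symm_apply, AddEquiv.apply_symm_apply, y.2 n]⟩
      left_inv := fun x => Subtype.ext (funext fun n => (ψ n).symm_apply_apply _)
      right_inv := fun y => Subtype.ext (funext fun n => (ψ n).apply_symm_apply _)
      map_add' := fun x y => Subtype.ext (funext fun n => map_add (ψ n) _ _) }, fun x => ?_⟩
  exact Subtype.ext (funext fun n => hψπ n x)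

omit i hi G e in
theorem toHHlim_bijective [IsNoetherianRing A] [IsAdicComplete I A]
    [LocallyOfFiniteType (X ↘ Spec (CommRingCat.of A))] (hM : Coh.IsCoh M)
    (hs : ClSub.IsProperOver (X ↘ Spec (CommRingCat.of A)) (CohB1.support M)) (p : ℕ) :
    Function.Bijective (Formal.toHHlim I M p) := by
  obtain ⟨Z, i, hi, hZ, G, hGq, hGf, ⟨e⟩⟩ :=
    (S0792.result (X ↘ Spec (CommRingCat.of A)) M hM.1 hM.2).mp hs
  letI : Z.Over (Spec (CommRingCat.of A)) := ⟨i ≫ (X ↘ Spec (CommRingCat.of A))⟩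
  haveI : IsProper (Z ↘ Spec (CommRingCat.of A)) := hZ
  haveI : G.IsQuasicoherent := hGq
  obtain ⟨E, Ψ, h⟩ := exists_transport i rfl I G e p
  have hb := (FF71.toHHlim_bijective I G (⟨hGq, hGf⟩ : Coh.IsCoh G) p).comp E.bijective
  rw [show Formal.toHHlim I G p ∘ E = Ψ ∘ Formal.toHHlim I M p from funext fun x => (h x).symm] at hb
  exact (Function.Bijective.of_comp_iff' Ψ.bijective _).mp hb

omit i hi G e in
theorem nonempty_completion_equiv [IsNoetherianRing A]
    [LocallyOfFiniteType (X ↘ Spec (CommRingCat.of A))] (hM : Coh.IsCoh M)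
    (hs : ClSub.IsProperOver (X ↘ Spec (CommRingCat.of A)) (CohB1.support M)) (p : ℕ) :
    Nonempty (AdicCompletion I (Coh.HH X M p) ≃+ Formal.HHlim I M p) := by
  obtain ⟨Z, i, hi, hZ, G, hGq, hGf, ⟨e⟩⟩ :=
    (S0792.result (X ↘ Spec (CommRingCat.of A)) M hM.1 hM.2).mp hs
  letI : Z.Over (Spec (CommRingCat.of A)) := ⟨i ≫ (X ↘ Spec (CommRingCat.of A))⟩
  haveI : IsProper (Z ↘ Spec (CommRingCat.of A)) := hZ
  haveI : G.IsQuasicoherent := hGq
  obtain ⟨E, Ψ, -⟩ := exists_transport i rfl I G e p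
  exact ⟨((AdicCompletion.congr I E).toAddEquiv.trans (AddEquiv.ofBijective _
    (FF71.ofCompletion_bijective I G (⟨hGq, hGf⟩ : Coh.IsCoh G) p))).trans Ψ.symm⟩

end Groth.Agent.FF52

end
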