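import Groth.Agent.Formal27.HomCompl
import Groth.Agent.QC70.HomCoh
import Groth.Agent.QC70.HomStalk
import Groth.Agent.Coh69.ProperOver
import Groth.Agent.FF52.Proper

/-!
Maps of completions of coherent modules whose supports meet in a set proper over the base.
-/

set_option autoImplicit false
set_option maxSynthPendingDepth 6
set_option linter.style.haveILetI false
set_option linter.unusedSectionVars false
set_option backward.isDefEq.respectTransparency.types false

universe u

noncomputable section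

open CategoryTheory CategoryTheory.Limits AlgebraicGeometry TopologicalSpace Opposite

namespace Groth.Agent.FF52.HomCompletion

open QC70 Formal27

/-- Artin–Rees for the preimage of powers of an ideal under a linear map. -/
theorem exists_ar {R : Type*} [CommRing R] [IsNoetherianRing R] {M N : Type*} [AddCommGroup M] [Module R M]
    [AddCommGroup N] [Module R N] [Module.Finite R N] (J : Ideal R) (Φ : M →ₗ[R] N) :
    ∃ k : ℕ, ∀ (n : ℕ) (x : M), Φ x ∈ J ^ (n + k) • (⊤ : Submodule R N) →
      ∃ t : M, Φ t = 0 ∧ x - t ∈ J ^ n • (⊤ : Submodule R M) := by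
  obtain ⟨k, hk⟩ := Ideal.exists_pow_inf_eq_pow_smul J (LinearMap.range Φ)
  refine ⟨k, fun n x hx => ?_⟩
  have hmem : Φ x ∈ J ^ (n + k) • (⊤ : Submodule R N) ⊓ LinearMap.range Φ := ⟨hx, LinearMap.mem_range_self Φ x⟩
  rw [hk _ (Nat.le_add_left k n), Nat.add_sub_cancel] at hmem
  obtain ⟨m, hm, hme⟩ : Φ x ∈ Submodule.map Φ (J ^ n • ⊤) := by
    rw [Submodule.map_smul'', Submodule.map_top]
    exact Submodule.smul_mono le_rfl inf_le_right hmem
  exact ⟨x - m, by rw [map_sub, hme, sub_self], by rwa [sub_sub_cancel]⟩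

/-- A vector with all coordinates in `J N`. -/
theorem pi_mem_smul {R : Type*} [CommRing R] {N : Type*} [AddCommGroup N] [Module R N] {r : ℕ} (J : Ideal R)
    (v : Fin r → N) (h : ∀ i, v i ∈ J • (⊤ : Submodule R N)) : v ∈ J • (⊤ : Submodule R (Fin r → N)) := by
  classical
  rw [show v = ∑ i, LinearMap.single R (fun _ => N) i (v i) from (Finset.univ_sum_single v).symm]
  refine Submodule.sum_mem _ fun i _ => ?_
  have := Submodule.mem_map_of_mem (f := LinearMap.single R (fun _ => N) i) (h i)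
  rw [Submodule.map_smul''] at this
  exact Submodule.smul_mono le_rfl le_top this

theorem apply_mem_smul {R : Type*} [CommRing R] {N : Type*} [AddCommGroup N] [Module R N] {r : ℕ} (J : Ideal R)
    (v : Fin r → N) (h : v ∈ J • (⊤ : Submodule R (Fin r → N))) (i : Fin r) : v i ∈ J • (⊤ : Submodule R N) := by
  have := Submodule.mem_map_of_mem (f := LinearMap.proj (R := R) (φ := fun _ : Fin r => N) i) h
  rw [Submodule.map_smul''] at this
  exact Submodule.smul_mono le_rfl le_top this

variable {A : Type u} [CommRing A] {X : Scheme.{u}} [X.Over (Spec (CommRingCat.of A))]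

theorem IM_eq_pow (M : X.Modules) (I : Ideal A) (n : ℕ) (V : X.Opens) :
    IM M (I ^ n) V = I.map (gi A X V) ^ n • ⊤ := by
  rw [IM, Ideal.map_pow]

theorem modPowLE_app {I : Ideal A} {m n : ℕ} (h : m ≤ n) {G : X.Modules} (V : X.Opens) (x : Γ(G, V)) :
    (Formal2.modPowLE I h G).app V ((Formal.modPowπ I n G).app V x) = (Formal.modPowπ I m G).app V x :=
  congrArg (fun φ => (Scheme.Modules.Hom.app φ V) x) (Formal2.modPowπ_modPowLE I h G)

theorem modPowLE_comp {I : Ideal A} {l m n : ℕ} (h : l ≤ m) (h' : m ≤ n) (G : X.Modules) :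
    Formal2.modPowLE I h' G ≫ Formal2.modPowLE I h G = Formal2.modPowLE I (h.trans h') G := by
  rw [← cancel_epi (Formal.modPowπ I n G), ← Category.assoc, Formal2.modPowπ_modPowLE,
    Formal2.modPowπ_modPowLE, Formal2.modPowπ_modPowLE]

theorem modPowTrans_eq (I : Ideal A) (n : ℕ) (G : X.Modules) :
    Formal.modPowTrans I n G = Formal2.modPowLE I (Nat.le_succ n) G := by
  rw [← cancel_epi (Formal.modPowπ I (n + 1) G), Formal.modPowπ_trans]
  exact (Formal2.modPowπ_modPowLE I (Nat.le_succ n) G).symm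

theorem homCmp_trans (I : Ideal A) {m n : ℕ} (h : m ≤ n) (M N : X.Modules) :
    Formal2.modPowLE I h (homMod M N) ≫ homCmp I m M N = homCmp I n M N ≫ homMap M (Formal2.modPowLE I h N) := by
  rw [← cancel_epi (Formal.modPowπ I n (homMod M N)), ← Category.assoc, ← Category.assoc,
    Formal2.modPowπ_modPowLE, π_homCmp, π_homCmp, ← homMap_comp', Formal2.modPowπ_modPowLE]

theorem homCmp_app (I : Ideal A) (n : ℕ) (M N : X.Modules) (V : X.Opens) (φ : Γ(homMod M N, V)) :
    (homCmp I n M N).app V ((Formal.modPowπ I n (homMod M N)).app V φ) =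
      (homMap M (Formal.modPowπ I n N)).app V φ :=
  congrArg (fun f => (Scheme.Modules.Hom.app f V) φ) (π_homCmp I n M N)

/-- On an affine open the comparison of completions is bijective up to a shift `k`. -/
def ARHom (I : Ideal A) (M N : X.Modules) (V : X.Opens) (k : ℕ) : Prop :=
  (∀ (n : ℕ) (φ : Γ(homMod M N, V)), (∀ p : Γ(M, V), (ofSec φ).app V le_rfl p ∈ IM N (I ^ (n + k)) V) →
    φ ∈ IM (homMod M N) (I ^ n) V) ∧
  ∀ (n : ℕ) (f : Γ(homMod M (Formal.modPow I (n + k) N), V)), ∃ φ : Γ(homMod M N, V),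
    (homMap M (Formal.modPowπ I n N)).app V φ =
      (homMap M (Formal2.modPowLE I (Nat.le_add_right n k) N)).app V f

theorem ARHom.mono {I : Ideal A} {M N : X.Modules} {V : X.Opens} {k k' : ℕ} (hk : k ≤ k')
    (h : ARHom I M N V k) : ARHom I M N V k' := by
  refine ⟨fun n φ hφ => h.1 n φ fun p =>
    Submodule.smul_mono_left (Ideal.map_mono (Ideal.pow_le_pow_right (by omega))) (hφ p), fun n f => ?_⟩
  obtain ⟨φ, hφ⟩ := h.2 n ((homMap M (Formal2.modPowLE I (Nat.add_le_add_left hk n) N)).app V f)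
  refine ⟨φ, hφ.trans ?_⟩
  rw [← modPowLE_comp (Nat.le_add_right n k) (Nat.add_le_add_left hk n) N, homMap_comp']
  rfl

theorem exists_arHom [IsLocallyNoetherian X] (I : Ideal A) {M N : X.Modules} (hM : Coh.IsCoh M) (hN : Coh.IsCoh N)
    {V : X.Opens} (hV : IsAffineOpen V) : ∃ k, ARHom I M N V k := by
  classical
  haveI := hM.1
  haveI := hN.1
  haveI := hM.2
  haveI := hN.2
  haveI : IsNoetherianRing Γ(X, V) := IsLocallyNoetherian.component_noetherian ⟨V, hV⟩
  haveI := finite_sections_of_isFiniteType M hV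
  haveI := finite_sections_of_isFiniteType N hV
  let J := I.map (gi A X V)
  obtain ⟨r, π, hπ⟩ := Module.Finite.exists_fin' Γ(X, V) Γ(M, V)
  obtain ⟨s, a, ha⟩ := (Submodule.fg_iff_exists_fin_generating_family).mp
    (IsNoetherian.noetherian (LinearMap.ker π))
  let g : Fin r → Γ(M, V) := fun i => π (Pi.single i 1)
  let Φ : Γ(homMod M N, V) →ₗ[Γ(X, V)] (Fin r → Γ(N, V)) :=
    LinearMap.pi fun i => (LinearMap.applyₗ (g i)).comp (homSecEquiv (M := M) (N := N) hV).toLinearMap
  let Ψ : (Fin r → Γ(N, V)) →ₗ[Γ(X, V)] (Fin s → Γ(N, V)) :=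
    LinearMap.pi fun j => ∑ i, a j i • LinearMap.proj i
  obtain ⟨k₁, hk₁⟩ := exists_ar J Φ
  obtain ⟨k₂, hk₂⟩ := exists_ar J Ψ
  have hgen : ∀ {G : Type u} [AddCommGroup G] [Module Γ(X, V) G] (l : Γ(M, V) →ₗ[Γ(X, V)] G) (c : Fin r → Γ(X, V)),
      l (π c) = ∑ i, c i • l (g i) := fun l c => by
    conv_lhs => rw [pi_eq_sum_univ' c]
    simp only [map_sum, map_smul, g]
  have hlext : ∀ {G : Type u} [AddCommGroup G] [Module Γ(X, V) G] (l l' : Γ(M, V) →ₗ[Γ(X, V)] G),
      (∀ i, l (g i) = l' (g i)) → l = l' := fun l l' h => LinearMap.ext fun p => by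
    obtain ⟨c, rfl⟩ := hπ p
    rw [hgen, hgen]
    exact Finset.sum_congr rfl fun i _ => by rw [h i]
  refine ⟨max k₁ k₂, fun n φ hφ => ?_, fun n f => ?_⟩
  · obtain ⟨t, ht, htφ⟩ := hk₁ n φ (pi_mem_smul _ _ fun i => by
      have h := hφ (g i)
      rw [IM_eq_pow] at h
      exact Submodule.smul_mono_left (Ideal.pow_le_pow_right (by omega)) h)
    have ht0 : t = 0 := (homSecEquiv (M := M) (N := N) hV).injective (hlext _ _ fun i => by
      rw [map_zero]
      exact congrFun ht i)
    rw [ht0, sub_zero] at htφ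
    rw [IM_eq_pow]
    exact htφ
  · let lf := homSecEquiv (M := M) (N := Formal.modPow I (n + max k₁ k₂) N) hV f
    choose v hv using fun i => modPowπ_app_surjective (M := N) I (n + max k₁ k₂) hV (lf (g i))
    obtain ⟨t, ht, htv⟩ := hk₂ n v (pi_mem_smul _ _ fun j => by
      have h0 : (Formal.modPowπ I (n + max k₁ k₂) N).app V (∑ i, a j i • v i) = 0 := by
        rw [map_sum]
        have e : π (a j) = 0 := LinearMap.mem_ker.mp (ha ▸ Submodule.subset_span (Set.mem_range_self j))
        refine Eq.trans ?_ ((congrArg lf e).trans (map_zero lf))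
        rw [hgen]
        exact Finset.sum_congr rfl fun i _ => by rw [Scheme.Modules.Hom.app_smul, hv]
      have h1 := (modPowπ_app_eq_zero_iff hV _).mp h0
      rw [IM_eq_pow] at h1
      have e2 : Ψ v j = ∑ i, a j i • v i := by simp [Ψ]
      rw [e2]
      exact Submodule.smul_mono_left (Ideal.pow_le_pow_right (by omega)) h1)
    let l₀ : (Fin r → Γ(X, V)) →ₗ[Γ(X, V)] Γ(N, V) := Fintype.linearCombination Γ(X, V) t
    have hl₀ : LinearMap.ker π ≤ LinearMap.ker l₀ := by
      rw [← ha, Submodule.span_le]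
      rintro _ ⟨j, rfl⟩
      rw [SetLike.mem_coe, LinearMap.mem_ker, Fintype.linearCombination_apply]
      have := congrFun ht j
      simpa [Ψ] using this
    let l : Γ(M, V) →ₗ[Γ(X, V)] Γ(N, V) :=
      ((LinearMap.ker π).liftQ l₀ hl₀).comp (LinearMap.quotKerEquivOfSurjective π hπ).symm.toLinearMap
    have hl : ∀ i, l (g i) = t i := fun i => by
      have : (LinearMap.quotKerEquivOfSurjective π hπ).symm (g i) = Submodule.Quotient.mk (Pi.single i 1) := by
        rw [LinearEquiv.symm_apply_eq]; rfl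
      simp only [l, LinearMap.comp_apply, LinearEquiv.coe_coe, this, Submodule.liftQ_apply, l₀,
        Fintype.linearCombination_apply_single, one_smul]
    refine ⟨(homSecEquiv (M := M) (N := N) hV).symm l,
      (homSecEquiv (M := M) (N := Formal.modPow I n N) hV).injective (hlext _ _ fun i => ?_)⟩
    show (ofSec ((homMap M (Formal.modPowπ I n N)).app V _)).app V le_rfl (g i) =
      (ofSec ((homMap M (Formal2.modPowLE I (Nat.le_add_right n _) N)).app V f)).app V le_rfl (g i)
    rw [homMap_app_app, homMap_app_app]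
    have e1 : (ofSec ((homSecEquiv (M := M) (N := N) hV).symm l)).app V le_rfl (g i) = t i :=
      (LinearMap.congr_fun ((homSecEquiv (M := M) (N := N) hV).apply_symm_apply l) (g i)).trans (hl i)
    rw [e1]
    refine Eq.trans ?_ (congrArg _ (hv i))
    rw [modPowLE_app]
    have h2 : v i - t i ∈ IM N (I ^ n) V := by
      rw [IM_eq_pow]; exact apply_mem_smul _ _ htv i
    have h3 := modPowπ_app_eq_zero_of_mem h2
    rw [map_sub, sub_eq_zero] at h3
    exact h3.symm

theorem isQuasicoherent_homMod [IsLocallyNoetherian X] {M : X.Modules} (hM : Coh.IsCoh M) (G : X.Modules)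
    [G.IsQuasicoherent] : (homMod M G).IsQuasicoherent :=
  isQuasicoherent_of_forall_isLocAt _ fun U hU => by
    haveI := hM.1
    haveI := hM.2
    haveI : IsNoetherianRing Γ(X, U) := IsLocallyNoetherian.component_noetherian ⟨U, hU⟩
    haveI := finite_sections_of_isFiniteType M hU
    haveI : Module.FinitePresentation Γ(X, U) Γ(M, U) := Module.finitePresentation_of_finite _ _
    exact isLocAt_homMod (isLocAt_of_isQuasicoherent G hU) hU

set_option maxHeartbeats 2000000 in
/-- The sheaf comparison is bijective up to a shift `K`. -/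
theorem exists_shift [AlgebraicGeometry.IsNoetherian X] (I : Ideal A) {M N : X.Modules} (hM : Coh.IsCoh M)
    (hN : Coh.IsCoh N) :
    ∃ K, ∀ n, kernel.ι (homCmp I (n + K) M N) ≫ Formal2.modPowLE I (Nat.le_add_right n K) (homMod M N) = 0 ∧
      homMap M (Formal2.modPowLE I (Nat.le_add_right n K) N) ≫ cokernel.π (homCmp I n M N) = 0 := by
  classical
  obtain ⟨S, hS⟩ := exists_cover (X := X)
  choose kW hkW using fun W : X.affineOpens => exists_arHom I hM hN W.2
  let K := S.sup kW
  have hk : ∀ W ∈ S, ARHom I M N W.1 K := fun W hW => (hkW W).mono (Finset.le_sup hW)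
  haveI := hN.1
  haveI := hM.1
  haveI hH := isQuasicoherent_homMod hM N
  refine ⟨K, fun n => ⟨?_, ?_⟩⟩
  · haveI := isQuasicoherent_modPow (homMod M N) I (n + K)
    haveI := isQuasicoherent_modPow N I (n + K)
    haveI := isQuasicoherent_homMod hM (Formal.modPow I (n + K) N)
    haveI := isQuasicoherent_kernel (homCmp I (n + K) M N)
    refine eq_zero_of_cover _ S hS fun W hW x => ?_
    obtain ⟨φ, hφ⟩ := modPowπ_app_surjective (M := homMod M N) I (n + K) W.2
      ((kernel.ι (homCmp I (n + K) M N)).app W.1 x)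
    change (Formal2.modPowLE I (Nat.le_add_right n K) (homMod M N)).app W.1 ((kernel.ι (homCmp I (n + K) M N)).app W.1 x) = 0
    rw [← hφ, modPowLE_app]
    refine modPowπ_app_eq_zero_of_mem ((hk W hW).1 n φ fun p => ?_)
    refine (modPowπ_app_eq_zero_iff W.2 _).mp ?_
    have h0 : (homMap M (Formal.modPowπ I (n + K) N)).app W.1 φ = 0 := by
      rw [← homCmp_app, hφ]
      exact congrArg (fun f => (Scheme.Modules.Hom.app f W.1) x) (kernel.condition (homCmp I (n + K) M N))
    exact (homMap_app_app _ φ le_rfl p).symm.trans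
      (congrArg (fun σ : Γ(homMod M (Formal.modPow I (n + K) N), W.1) => (ofSec σ).app W.1 le_rfl p) h0)
  · haveI := isQuasicoherent_modPow N I (n + K)
    haveI := isQuasicoherent_homMod hM (Formal.modPow I (n + K) N)
    refine eq_zero_of_cover _ S hS fun W hW x => ?_
    obtain ⟨φ, hφ⟩ := (hk W hW).2 n x
    change (cokernel.π (homCmp I n M N)).app W.1
      ((homMap M (Formal2.modPowLE I (Nat.le_add_right n K) N)).app W.1 x) = 0
    rw [← hφ, ← homCmp_app]
    exact congrArg (fun f => (Scheme.Modules.Hom.app f W.1) ((Formal.modPowπ I n (homMod M N)).app W.1 φ))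
      (cokernel.condition (homCmp I n M N))

set_option maxHeartbeats 2000000 in
/-- Full faithfulness of completion from the algebraization of the sections of `𝓗om`. -/
theorem existsUnique_hom [AlgebraicGeometry.IsNoetherian X] {I : Ideal A} {M N : X.Modules} (hM : Coh.IsCoh M)
    (hN : Coh.IsCoh N) (h : Function.Bijective (Formal.toHHlim I (homMod M N) 0))
    (ψ : Formal.completion I M ⟶ Formal.completion I N) :
    ∃! φ : M ⟶ N, ∀ n : ℕ, Formal.modPowπ I (n + 1) M ≫ ψ.app (op n) = φ ≫ Formal.modPowπ I (n + 1) N := by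
  obtain ⟨K, hK⟩ := exists_shift I hM hN
  obtain ⟨q, hq0⟩ : ∃ q : ∀ m, M ⟶ Formal.modPow I (m + 1) N,
      ∀ m, q m = Formal.modPowπ I (m + 1) M ≫ ψ.app (op m) := ⟨_, fun _ => rfl⟩
  have hq : ∀ {m m' : ℕ} (hm : m ≤ m'), q m' ≫ Formal2.modPowLE I (Nat.succ_le_succ hm) N = q m :=
    fun hm => by rw [hq0, hq0]; exact completion_π_trans ψ hm
  let y : ∀ m, M ⟶ Formal.modPow I m N := fun m => q m ≫ Formal2.modPowLE I (Nat.le_succ m) N
  have hy : ∀ {m m' : ℕ} (hm : m ≤ m'), y m' ≫ Formal2.modPowLE I hm N = y m := fun {m m'} hm => by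
    simp only [y]
    rw [← hq hm, Category.assoc, Category.assoc, modPowLE_comp, modPowLE_comp]
  have hy' : ∀ n, y (n + 1) = Formal.modPowπ I (n + 1) M ≫ ψ.app (op n) := fun n => by
    simp only [y]
    rw [← hq0]
    exact hq (Nat.le_succ n)
  let Y : ∀ m, Γ(homMod M (Formal.modPow I m N), (⊤ : X.Opens)) := fun m => (HomOn.ofHom (y m) ⊤).toSec
  have hY : ∀ {m m' : ℕ} (hm : m ≤ m'), (homMap M (Formal2.modPowLE I hm N)).app ⊤ (Y m') = Y m := fun {m m'} hm =>
    HomOn.ext' fun W hW z => congrArg (fun f => (Scheme.Modules.Hom.app f W) z) (hy hm)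
  let c := fun m => homCmp I m M N
  let e := fun m => Abelian.factorThruImage (c m)
  let i := fun m => Abelian.image.ι (c m)
  have hei : ∀ m, e m ≫ i m = c m := fun m => Abelian.image.fac (c m)
  have hker : ∀ n, kernel.ι (e (n + K)) ≫ Formal2.modPowLE I (Nat.le_add_right n K) (homMod M N) = 0 := fun n => by
    have h0 : kernel.ι (e (n + K)) ≫ c (n + K) = 0 :=
      (congrArg (kernel.ι (e (n + K)) ≫ ·) (hei (n + K)).symm).trans
        (by rw [← Category.assoc, kernel.condition, zero_comp])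
    exact (congrArg (· ≫ _) (kernel.lift_ι (c (n + K)) _ h0).symm).trans
      ((Category.assoc _ _ _).trans ((congrArg (kernel.lift (c (n + K)) _ h0 ≫ ·) (hK n).1).trans comp_zero))
  let η := fun n => Abelian.epiDesc (e (n + K)) (Formal2.modPowLE I (Nat.le_add_right n K) (homMod M N)) (hker n)
  have hη : ∀ n, e (n + K) ≫ η n = Formal2.modPowLE I (Nat.le_add_right n K) (homMod M N) := fun n =>
    Abelian.comp_epiDesc _ _ _
  let z : ∀ n, Γ(Abelian.image (c (n + K)), (⊤ : X.Opens)) := fun n =>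
    (kernel.lift (cokernel.π (c (n + K))) _ (hK (n + K)).2).app ⊤ (Y (n + K + K))
  have hz : ∀ n, (i (n + K)).app ⊤ (z n) = Y (n + K) := fun n => by
    refine Eq.trans ?_ (hY (Nat.le_add_right (n + K) K))
    exact congrArg (fun f => (Scheme.Modules.Hom.app f ⊤) (Y (n + K + K))) (kernel.lift_ι _ _ (hK (n + K)).2)
  have hσc : ∀ n (w : Γ(Abelian.image (c (n + K)), (⊤ : X.Opens))),
      (c n).app ⊤ ((η n).app ⊤ w) = (homMap M (Formal2.modPowLE I (Nat.le_add_right n K) N)).app ⊤ ((i (n + K)).app ⊤ w) := by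
    intro n w
    have : η n ≫ c n = i (n + K) ≫ homMap M (Formal2.modPowLE I (Nat.le_add_right n K) N) := by
      rw [← cancel_epi (e (n + K)), ← Category.assoc, hη, homCmp_trans, ← Category.assoc, hei]
    exact congrArg (fun f => (Scheme.Modules.Hom.app f ⊤) w) this
  let σ := fun n => (η (n + 1)).app ⊤ (z (n + 1))
  have hσY : ∀ n, (c (n + 1)).app ⊤ (σ n) = Y (n + 1) := fun n => by
    rw [hσc, hz, hY]
  have hinj : ∀ m, Function.Injective ((i m).app ⊤) := fun m => app_injective_of_mono (i m) ⊤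
  have hσ : ∀ n, (Formal.modPowTrans I (n + 1) (homMod M N)).app ⊤ (σ (n + 1)) = σ n := fun n => by
    have hle : n + 1 + K ≤ n + 1 + 1 + K := by omega
    have hr0 : (i (n + 1 + 1 + K) ≫ homMap M (Formal2.modPowLE I hle N)) ≫ cokernel.π (c (n + 1 + K)) = 0 := by
      rw [← cancel_epi (e (n + 1 + 1 + K)), comp_zero, ← Category.assoc, ← Category.assoc, hei, ← homCmp_trans,
        Category.assoc, cokernel.condition, comp_zero]
    let ρ : Abelian.image (c (n + 1 + 1 + K)) ⟶ Abelian.image (c (n + 1 + K)) := kernel.lift _ _ hr0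
    have hρ : ρ ≫ i (n + 1 + K) = i (n + 1 + 1 + K) ≫ homMap M (Formal2.modPowLE I hle N) := kernel.lift_ι _ _ hr0
    have heρ : e (n + 1 + 1 + K) ≫ ρ = Formal2.modPowLE I hle (homMod M N) ≫ e (n + 1 + K) := by
      rw [← cancel_mono (i (n + 1 + K)), Category.assoc, Category.assoc, hρ, hei, ← Category.assoc, hei,
        homCmp_trans]
    have hρη : ρ ≫ η (n + 1) = η (n + 1 + 1) ≫ Formal.modPowTrans I (n + 1) (homMod M N) := by
      rw [← cancel_epi (e (n + 1 + 1 + K)), ← Category.assoc, ← Category.assoc, heρ, Category.assoc, hη, hη,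
        modPowTrans_eq, modPowLE_comp, modPowLE_comp]
    have hρz : ρ.app ⊤ (z (n + 1 + 1)) = z (n + 1) := hinj _ (by
      rw [hz]
      refine (congrArg (fun f => (Scheme.Modules.Hom.app f ⊤) (z (n + 1 + 1))) hρ).trans ?_
      exact (congrArg _ (hz (n + 1 + 1))).trans (hY hle))
    refine (congrArg (fun f => (Scheme.Modules.Hom.app f ⊤) (z (n + 1 + 1))) hρη).symm.trans ?_
    exact congrArg (fun w => (η (n + 1)).app ⊤ w) hρz
  obtain ⟨s, hs, huniq⟩ := existsUnique_section h σ hσ
  refine ⟨(ofSec s).toHom, fun n => ?_, fun φ hφ => ?_⟩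
  · have h1 : (homMap M (Formal.modPowπ I (n + 1) N)).app ⊤ s = Y (n + 1) := by
      rw [← homCmp_app, hs n]
      exact hσY n
    rw [← hy']
    refine Scheme.Modules.hom_ext _ _ fun W => ?_
    ext w
    exact (congrArg (fun τ : Γ(homMod M (Formal.modPow I (n + 1) N), (⊤ : X.Opens)) =>
      (ofSec τ).app W le_top w) h1).symm
  · let τ : Γ(homMod M N, (⊤ : X.Opens)) := (HomOn.ofHom φ ⊤).toSec
    have hφy : ∀ m, φ ≫ Formal.modPowπ I m N = y m := fun m => by
      simp only [y]
      rw [hq0, hφ m, Category.assoc, Formal2.modPowπ_modPowLE]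
    have hτY : ∀ m, (homMap M (Formal.modPowπ I m N)).app ⊤ τ = Y m := fun m =>
      HomOn.ext' fun W hW w => congrArg (fun f => (Scheme.Modules.Hom.app f W) w) (hφy m)
    have hτ : τ = s := huniq τ fun n => by
      have h1 : (e (n + 1 + K)).app ⊤ ((Formal.modPowπ I (n + 1 + K) (homMod M N)).app ⊤ τ) = z (n + 1) := by
        refine hinj _ (Eq.trans ?_ (hz (n + 1)).symm)
        refine (congrArg (fun f => (Scheme.Modules.Hom.app f ⊤) _) (hei (n + 1 + K))).trans ?_
        exact (homCmp_app I _ M N ⊤ τ).trans (hτY _)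
      show _ = (η (n + 1)).app ⊤ (z (n + 1))
      rw [← h1]
      refine Eq.trans ?_ (congrArg (fun f => (Scheme.Modules.Hom.app f ⊤) _) (hη (n + 1))).symm
      exact (modPowLE_app _ ⊤ τ).symm
    rw [← hτ]
    exact Scheme.Modules.hom_ext _ _ fun W => rfl

theorem support_homMod_subset [IsLocallyNoetherian X] {M N : X.Modules} (hM : Coh.IsCoh M) (hN : Coh.IsCoh N) :
    CohB1.support (homMod M N) ⊆ CohB1.support M ∩ CohB1.support N := by
  intro x hx
  obtain ⟨-, -, -, ⟨ev⟩⟩ := exists_homStalk_coh hM hN x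
  refine ⟨fun h => hx ?_, fun h => hx ?_⟩
  · haveI := h
    exact ev.toEquiv.subsingleton_congr.mpr ⟨fun f f' => LinearMap.ext fun a => by rw [Subsingleton.elim a 0, map_zero, map_zero]⟩
  · haveI := h
    exact ev.toEquiv.subsingleton_congr.mpr ⟨fun f f' => LinearMap.ext fun a => Subsingleton.elim _ _⟩

/-- Completion is fully faithful on coherent modules whose supports meet in a proper set. -/
theorem existsUnique_of_proper_inter [IsNoetherianRing A] (I : Ideal A) [IsAdicComplete I A]
    [LocallyOfFiniteType (X ↘ Spec (CommRingCat.of A))] [QuasiCompact (X ↘ Spec (CommRingCat.of A))]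
    {M N : X.Modules} (hM : Coh.IsCoh M) (hN : Coh.IsCoh N)
    (hs : ClSub.IsProperOver (X ↘ Spec (CommRingCat.of A)) (CohB1.support M ∩ CohB1.support N))
    (ψ : Formal.completion I M ⟶ Formal.completion I N) :
    ∃! φ : M ⟶ N, ∀ n : ℕ, Formal.modPowπ I (n + 1) M ≫ ψ.app (op n) = φ ≫ Formal.modPowπ I (n + 1) N := by
  haveI : IsLocallyNoetherian X := LocallyOfFiniteType.isLocallyNoetherian (X ↘ Spec (CommRingCat.of A))
  haveI : CompactSpace X := QuasiCompact.compactSpace_of_compactSpace (X ↘ Spec (CommRingCat.of A))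
  haveI : AlgebraicGeometry.IsNoetherian X := ⟨⟩
  have hH := isCoh_homMod hM hN
  haveI := hH.1
  haveI := hH.2
  exact existsUnique_hom hM hN (FF52.toHHlim_bijective I hH
    (Coh69.PO.mono hs (isClosed_support _) (support_homMod_subset hM hN)) 0) ψ

end Groth.Agent.FF52.HomCompletion
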